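import Groth.Agent.HypJac.Alg
import Mathlib

/-!
The Jacobian ideals of the affine pieces of a Weierstrass cubic.
-/

set_option autoImplicit false
set_option linter.style.haveILetI false

universe u

open MvPolynomial

namespace Groth.Agent.HypJac

variable {k : Type u} [Field k]

/-- Setting the `l`-th variable to one. -/
noncomputable def dehP (k : Type u) [Field k] {n : ℕ} (l : Fin (n + 1)) :
    MvPolynomial (Fin (n + 1)) k →+* MvPolynomial {j : Fin (n + 1) // j ≠ l} k :=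
  eval₂Hom C (fun j => if h : j = l then 1 else X ⟨j, h⟩)

/-- The cubic `Y²Z − X³ − aXZ² + bZ³`. -/
noncomputable def cubic (a b : k) : MvPolynomial (Fin (2 + 1)) k :=
  X 1 ^ 2 * X 2 - X 0 ^ 3 - C a * X 0 * X 2 ^ 2 + C b * X 2 ^ 3

variable (a b : k)

theorem dehP_cubic_ne_zero (l : Fin (2 + 1)) : dehP k l (cubic a b) ≠ 0 := fun h => by
  classical
  have key : ∀ v : {j : Fin (2 + 1) // j ≠ l} → k, eval v (dehP k l (cubic a b)) = 0 := fun v => by rw [h, map_zero]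
  fin_cases l
  · have := key (fun _ => 0)
    simp [dehP, cubic, eval₂Hom_X'] at this
  · have h1 := key (fun j => if (j.1 : Fin (2 + 1)) = 2 then 0 else 1)
    simp [dehP, cubic] at h1
  · have h1 := key (fun j => if (j.1 : Fin (2 + 1)) = 1 then 1 else 0)
    have h0 := key (fun _ => 0)
    simp [dehP, cubic] at h1 h0
    exact one_ne_zero (α := k) (by linear_combination h1 - h0)

theorem jac_chart_two_iff (h2 : (2 : k) ≠ 0) :
    jac (dehP k (2 : Fin (2 + 1)) (cubic a b)) = ⊤ ↔ 4 * a ^ 3 + 27 * b ^ 2 ≠ 0 := by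
  classical
  let x : MvPolynomial {j : Fin (2 + 1) // j ≠ 2} k := X ⟨0, by decide⟩
  let y : MvPolynomial {j : Fin (2 + 1) // j ≠ 2} k := X ⟨1, by decide⟩
  have hg : dehP k (2 : Fin (2 + 1)) (cubic a b) = y ^ 2 - x ^ 3 - C a * x + C b := by
    simp [dehP, cubic, x, y]
  have hx : pderiv ⟨0, by decide⟩ (y ^ 2 - x ^ 3 - C a * x + C b) = -(3 * x ^ 2) - C a := by
    simp [x, y, pderiv_pow, Subtype.ext_iff]
  have hy : pderiv ⟨1, by decide⟩ (y ^ 2 - x ^ 3 - C a * x + C b) = 2 * y := by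
    simp [x, y, pderiv_pow, Subtype.ext_iff]
  rw [hg]
  constructor
  · intro h hD
    obtain ⟨K, _, φ, x0, hx0, hx0'⟩ : ∃ (K : Type u) (_ : Field K) (φ : k →+* K) (x0 : K),
        3 * x0 ^ 2 + φ a = 0 ∧ x0 ^ 3 + φ a * x0 - φ b = 0 := by
      refine ⟨AlgebraicClosure k, inferInstance, algebraMap k _, ?_⟩
      have hDK : 4 * algebraMap k (AlgebraicClosure k) a ^ 3 + 27 * algebraMap k (AlgebraicClosure k) b ^ 2 = 0 := by
        simpa [map_ofNat] using congrArg (algebraMap k (AlgebraicClosure k)) hD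
      have h2K : (2 : AlgebraicClosure k) ≠ 0 :=
        fun h' => h2 ((algebraMap k (AlgebraicClosure k)).injective (by simpa [map_ofNat] using h'))
      revert hDK
      generalize algebraMap k (AlgebraicClosure k) a = A
      generalize algebraMap k (AlgebraicClosure k) b = B
      intro hDK
      by_cases hA : A = 0
      · subst hA
        by_cases h3 : (3 : AlgebraicClosure k) = 0
        · obtain ⟨x0, hx0⟩ := IsAlgClosed.exists_pow_nat_eq B (n := 3) (by norm_num)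
          exact ⟨x0, by rw [h3]; ring, by rw [hx0]; ring⟩
        · have hB : B = 0 := by
            have : (3 : AlgebraicClosure k) ^ 3 * B ^ 2 = 0 := by linear_combination hDK
            simpa [h3] using this
          exact ⟨0, by ring, by rw [hB]; ring⟩
      · have h2A : 2 * A ≠ 0 := mul_ne_zero h2K hA
        have hdiv := div_mul_cancel₀ (3 * B) h2A
        refine ⟨3 * B / (2 * A), ?_, ?_⟩
        · refine mul_left_cancel₀ (pow_ne_zero 2 h2A) ?_
          linear_combination (3 * (3 * B / (2 * A) * (2 * A) + 3 * B)) * hdiv + hDK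
        · refine mul_left_cancel₀ (pow_ne_zero 3 h2A) ?_
          linear_combination ((3 * B / (2 * A) * (2 * A)) ^ 2 + (3 * B / (2 * A) * (2 * A)) * (3 * B) + (3 * B) ^ 2 +
            4 * A ^ 3) * hdiv + B * hDK
    letI : Algebra k K := φ.toAlgebra
    let w : {j : Fin (2 + 1) // j ≠ 2} → K := fun j => if (j.1 : Fin (2 + 1)) = 0 then x0 else 0
    have hw : ∀ p ∈ jac (y ^ 2 - x ^ 3 - C a * x + C b), aeval w p = 0 := fun p hp => by
      refine (Ideal.span_le (I := RingHom.ker (aeval w).toRingHom)).2 ?_ hp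
      rintro p (rfl | ⟨⟨i, hi⟩, rfl⟩)
      · show aeval w _ = 0
        simp [x, y, w, RingHom.algebraMap_toAlgebra]
        linear_combination -hx0'
      · show aeval w (pderiv ⟨i, hi⟩ _) = 0
        obtain rfl | rfl : i = 0 ∨ i = 1 := by revert hi; revert i; decide
        · rw [hx]
          simp [x, w, RingHom.algebraMap_toAlgebra, map_ofNat]
          linear_combination -hx0
        · rw [hy]
          simp [y, w]
    simpa using hw 1 (h ▸ Submodule.mem_top)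
  · intro hD
    rw [Ideal.eq_top_iff_one]
    set J := jac (y ^ 2 - x ^ 3 - C a * x + C b)
    have m0 : y ^ 2 - x ^ 3 - C a * x + C b ∈ J := self_mem_jac _
    have m1 : -(3 * x ^ 2) - C a ∈ J := hx ▸ pderiv_mem_jac _ _
    have m2 : 2 * y ∈ J := hy ▸ pderiv_mem_jac _ _
    have hh : C ((2 : k)⁻¹) * 2 = (1 : MvPolynomial {j : Fin (2 + 1) // j ≠ 2} k) := by
      rw [show (2 : MvPolynomial {j : Fin (2 + 1) // j ≠ 2} k) = C 2 from (map_ofNat C 2).symm, ← map_mul,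
        inv_mul_cancel₀ h2, map_one]
    have m3 : x ^ 3 + C a * x - C b ∈ J := by
      have : x ^ 3 + C a * x - C b = (C ((2 : k)⁻¹) * y) * (2 * y) - (y ^ 2 - x ^ 3 - C a * x + C b) := by
        rw [show (C ((2 : k)⁻¹) * y) * (2 * y) = (C ((2 : k)⁻¹) * 2) * y ^ 2 by ring, hh]
        ring
      rw [this]
      exact J.sub_mem (J.mul_mem_left _ m2) m0
    have hDm : C (4 * a ^ 3 + 27 * b ^ 2) ∈ J := by
      have : C (4 * a ^ 3 + 27 * b ^ 2) = (6 * C a * x ^ 2 + 9 * C b * x + 4 * C a ^ 2) * (-(-(3 * x ^ 2) - C a)) -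
          (18 * C a * x + 27 * C b) * (x ^ 3 + C a * x - C b) := by
        simp only [map_add, map_mul, map_pow, map_ofNat]
        ring
      rw [this]
      exact J.sub_mem (J.mul_mem_left _ (J.neg_mem m1)) (J.mul_mem_left _ m3)
    have := J.mul_mem_left (C (4 * a ^ 3 + 27 * b ^ 2)⁻¹) hDm
    rwa [← map_mul, inv_mul_cancel₀ hD, map_one] at this

theorem jac_chart_one (h2 : (2 : k) ≠ 0) : jac (dehP k (1 : Fin (2 + 1)) (cubic a b)) = ⊤ := by
  classical
  let x : MvPolynomial {j : Fin (2 + 1) // j ≠ 1} k := X ⟨0, by decide⟩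
  let z : MvPolynomial {j : Fin (2 + 1) // j ≠ 1} k := X ⟨2, by decide⟩
  have hg : dehP k (1 : Fin (2 + 1)) (cubic a b) = z - x ^ 3 - C a * x * z ^ 2 + C b * z ^ 3 := by
    simp [dehP, cubic, x, z]
  have hx : pderiv ⟨0, by decide⟩ (z - x ^ 3 - C a * x * z ^ 2 + C b * z ^ 3) = -(3 * x ^ 2) - C a * z ^ 2 := by
    simp [x, z, Subtype.ext_iff]
    try ring
  have hz : pderiv ⟨2, by decide⟩ (z - x ^ 3 - C a * x * z ^ 2 + C b * z ^ 3) =
      1 - C a * x * (2 * z) + C b * (3 * z ^ 2) := by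
    simp [x, z, Subtype.ext_iff]
    try ring
  rw [hg, Ideal.eq_top_iff_one]
  set J := jac (z - x ^ 3 - C a * x * z ^ 2 + C b * z ^ 3)
  have m0 : z - x ^ 3 - C a * x * z ^ 2 + C b * z ^ 3 ∈ J := self_mem_jac _
  have m1 : -(3 * x ^ 2) - C a * z ^ 2 ∈ J := hx ▸ pderiv_mem_jac _ _
  have m2 : 1 - C a * x * (2 * z) + C b * (3 * z ^ 2) ∈ J := hz ▸ pderiv_mem_jac _ _
  have m3 : 2 * z ∈ J := by
    have : 2 * z = 3 * (z - x ^ 3 - C a * x * z ^ 2 + C b * z ^ 3) - x * (-(3 * x ^ 2) - C a * z ^ 2) -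
        z * (1 - C a * x * (2 * z) + C b * (3 * z ^ 2)) := by ring
    rw [this]
    exact J.sub_mem (J.sub_mem (J.mul_mem_left _ m0) (J.mul_mem_left _ m1)) (J.mul_mem_left _ m2)
  have hh : C ((2 : k)⁻¹) * 2 = (1 : MvPolynomial {j : Fin (2 + 1) // j ≠ 1} k) := by
    rw [show (2 : MvPolynomial {j : Fin (2 + 1) // j ≠ 1} k) = C 2 from (map_ofNat C 2).symm, ← map_mul,
      inv_mul_cancel₀ h2, map_one]
  have m4 : z ∈ J := by
    have := J.mul_mem_left (C ((2 : k)⁻¹)) m3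
    rwa [← mul_assoc, hh, one_mul] at this
  have : (1 : MvPolynomial {j : Fin (2 + 1) // j ≠ 1} k) = (1 - C a * x * (2 * z) + C b * (3 * z ^ 2)) +
      (2 * C a * x - 3 * C b * z) * z := by ring
  rw [this]
  exact J.add_mem m2 (J.mul_mem_left _ m4)

theorem jac_chart_zero (h2 : (2 : k) ≠ 0) (hD : 4 * a ^ 3 + 27 * b ^ 2 ≠ 0) :
    jac (dehP k (0 : Fin (2 + 1)) (cubic a b)) = ⊤ := by
  classical
  let y : MvPolynomial {j : Fin (2 + 1) // j ≠ 0} k := X ⟨1, by decide⟩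
  let z : MvPolynomial {j : Fin (2 + 1) // j ≠ 0} k := X ⟨2, by decide⟩
  have hg : dehP k (0 : Fin (2 + 1)) (cubic a b) = y ^ 2 * z - 1 - C a * z ^ 2 + C b * z ^ 3 := by
    simp [dehP, cubic, y, z]
  have hy : pderiv ⟨1, by decide⟩ (y ^ 2 * z - 1 - C a * z ^ 2 + C b * z ^ 3) = 2 * y * z := by
    simp [y, z, Subtype.ext_iff]
    try ring
  have hz : pderiv ⟨2, by decide⟩ (y ^ 2 * z - 1 - C a * z ^ 2 + C b * z ^ 3) =
      y ^ 2 - C a * (2 * z) + C b * (3 * z ^ 2) := by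
    simp [y, z, Subtype.ext_iff]
    try ring
  rw [hg, Ideal.eq_top_iff_one]
  set J := jac (y ^ 2 * z - 1 - C a * z ^ 2 + C b * z ^ 3)
  have m0 : y ^ 2 * z - 1 - C a * z ^ 2 + C b * z ^ 3 ∈ J := self_mem_jac _
  have m1 : 2 * y * z ∈ J := hy ▸ pderiv_mem_jac _ _
  have m2 : y ^ 2 - C a * (2 * z) + C b * (3 * z ^ 2) ∈ J := hz ▸ pderiv_mem_jac _ _
  have hh : C ((2 : k)⁻¹) * 2 = (1 : MvPolynomial {j : Fin (2 + 1) // j ≠ 0} k) := by
    rw [show (2 : MvPolynomial {j : Fin (2 + 1) // j ≠ 0} k) = C 2 from (map_ofNat C 2).symm, ← map_mul,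
      inv_mul_cancel₀ h2, map_one]
  have m3 : y ^ 2 * z ∈ J := by
    have := J.mul_mem_left (C ((2 : k)⁻¹) * y) m1
    rwa [show C ((2 : k)⁻¹) * y * (2 * y * z) = (C ((2 : k)⁻¹) * 2) * (y ^ 2 * z) by ring, hh, one_mul] at this
  have mh : C b * z ^ 3 - C a * z ^ 2 - 1 ∈ J := by
    rw [show C b * z ^ 3 - C a * z ^ 2 - 1 = (y ^ 2 * z - 1 - C a * z ^ 2 + C b * z ^ 3) - y ^ 2 * z by ring]
    exact J.sub_mem m0 m3
  have mq : z ^ 2 * (3 * C b * z - 2 * C a) ∈ J := by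
    rw [show z ^ 2 * (3 * C b * z - 2 * C a) = z * (y ^ 2 - C a * (2 * z) + C b * (3 * z ^ 2)) - y ^ 2 * z by ring]
    exact J.sub_mem (J.mul_mem_left _ m2) m3
  have ml : 3 * C b * z - 2 * C a ∈ J := by
    rw [show 3 * C b * z - 2 * C a = (C b * z - C a) * (z ^ 2 * (3 * C b * z - 2 * C a)) -
      (3 * C b * z - 2 * C a) * (C b * z ^ 3 - C a * z ^ 2 - 1) by ring]
    exact J.sub_mem (J.mul_mem_left _ mq) (J.mul_mem_left _ mh)
  have hDm : C (4 * a ^ 3 + 27 * b ^ 2) ∈ J := by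
    have : C (4 * a ^ 3 + 27 * b ^ 2) = ((3 * C b * z) ^ 2 - C a * (3 * C b * z) - 2 * C a ^ 2) * (3 * C b * z - 2 * C a) -
        27 * C b ^ 2 * (C b * z ^ 3 - C a * z ^ 2 - 1) := by
      simp only [map_add, map_mul, map_pow, map_ofNat]
      ring
    rw [this]
    exact J.sub_mem (J.mul_mem_left _ ml) (J.mul_mem_left _ mh)
  have := J.mul_mem_left (C (4 * a ^ 3 + 27 * b ^ 2)⁻¹) hDm
  rwa [← map_mul, inv_mul_cancel₀ hD, map_one] at this

theorem jac_cubic_iff (h2 : (2 : k) ≠ 0) :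
    (∀ l : Fin (2 + 1), jac (dehP k l (cubic a b)) = ⊤) ↔ 4 * a ^ 3 + 27 * b ^ 2 ≠ 0 := by
  refine ⟨fun h => (jac_chart_two_iff a b h2).1 (h 2), fun hD l => ?_⟩
  fin_cases l
  · exact jac_chart_zero a b h2 hD
  · exact jac_chart_one a b h2
  · exact (jac_chart_two_iff a b h2).2 hD

end Groth.Agent.HypJac
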