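import Groth.Agent.HypJac.Alg
import Groth.Agent.HypJac.Cubic
import Groth.Agent.CompInt.Dim
import Groth.Agent.ProjMor.Base
import Groth.Agent.PicPn.Chart
import Mathlib

/-!
Smoothness of a hypersurface of projective space chart by chart.
-/

set_option autoImplicit false
set_option linter.style.haveILetI false
set_option backward.isDefEq.respectTransparency false

universe u

open CategoryTheory AlgebraicGeometry TopologicalSpace MvPolynomial
open Groth.Agent.QC (resO)

noncomputable section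

namespace Groth.Agent.HypJac

variable {k : Type u} [Field k] {n d : ℕ}

theorem smooth_chart_iff (G : LefPen.Form n k d) (l : Fin (n + 1))
    (hG : dehP k l (G : MvPolynomial (Fin (n + 1)) k) ≠ 0) :
    RingHom.Smooth (((LefPen.hypIdeal G).subschemeι ≫ CohB1.ProjSpace.toSpec n k).appLE ⊤
        ((LefPen.hypIdeal G).subschemeι ⁻¹ᵁ (CompInt.C k n l).1) le_top).hom ↔
      jac (dehP k l (G : MvPolynomial (Fin (n + 1)) k)) = ⊤ := by
  classical
  let I := LefPen.hypIdeal G
  let q := CohB1.ProjSpace.toSpec n k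
  let U := CompInt.C k n l
  obtain ⟨e, he, heC⟩ := PicPn.exists_chart (k := k) (n := n) l
  have hdeh : ∀ p, e (GrT.deh (CohB1.polyGrading n k) (PicPn.X_mem l) p) = dehP k l p := by
    refine RingHom.congr_fun (f := e.toRingHom.comp (GrT.deh (CohB1.polyGrading n k) (PicPn.X_mem l)))
      (MvPolynomial.ringHom_ext (fun c => ?_) fun j => ?_)
    · simpa [dehP] using heC c
    · by_cases h : j = l
      · subst h
        simp [dehP, GrT.deh_self]
      · simpa [dehP, h] using he j h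
  let π : Γ(CompInt.P k n, U.1) →+* Γ(I.subscheme, I.subschemeι ⁻¹ᵁ U.1) := (I.subschemeι.app U.1).hom
  have hπ : Function.Surjective π := I.subschemeι_app_surjective U
  have hker : RingHom.ker (π.comp e.symm.toRingHom) = Ideal.span {dehP k l (G : MvPolynomial (Fin (n + 1)) k)} := by
    rw [← RingHom.comap_ker, show RingHom.ker π = _ from I.ker_subschemeι_app U, CompInt.hypIdeal_chart]
    show Ideal.comap e.symm _ = _
    rw [Ideal.comap_symm, Ideal.map_span, Set.image_singleton, CompInt.eqn]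
    congr 2
    exact hdeh _
  let ψ := (Ideal.quotEquivOfEq hker.symm).trans
    (RingHom.quotientKerEquivOfSurjective (f := π.comp e.symm.toRingHom) (hπ.comp e.symm.surjective))
  letI : Algebra k Γ(I.subscheme, I.subschemeι ⁻¹ᵁ U.1) :=
    (((I.subschemeι ≫ q).appLE ⊤ (I.subschemeι ⁻¹ᵁ U.1) le_top).hom.comp
      (Scheme.ΓSpecIso (CommRingCat.of k)).inv.hom).toAlgebra
  have hcst : ∀ c : k, algebraMap k Γ(I.subscheme, I.subschemeι ⁻¹ᵁ U.1) c = π (e.symm (MvPolynomial.C c)) := fun c => by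
    rw [← heC, RingEquiv.symm_apply_apply, ← MvPolynomial.algebraMap_eq,
      ← ProjMor.res_toGlobal_base (CohB1.polyGrading n k) (PicPn.X_mem l) c]
    show ((I.subschemeι ≫ q).appLE ⊤ (I.subschemeι ⁻¹ᵁ U.1) le_top).hom _ = _
    rw [← Scheme.Hom.appLE_comp_appLE I.subschemeι q ⊤ U.1 (I.subschemeι ⁻¹ᵁ U.1) le_top le_rfl,
      Scheme.Hom.appLE_eq_app]
    rfl
  let Ψ : (MvPolynomial {j : Fin (n + 1) // j ≠ l} k ⧸ Ideal.span {dehP k l (G : MvPolynomial (Fin (n + 1)) k)}) ≃ₐ[k]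
      Γ(I.subscheme, I.subschemeι ⁻¹ᵁ U.1) := AlgEquiv.ofRingEquiv (f := ψ) fun c => (hcst c).symm
  have h1 : RingHom.Smooth ((I.subschemeι ≫ q).appLE ⊤ (I.subschemeι ⁻¹ᵁ U.1) le_top).hom ↔
      Algebra.Smooth k Γ(I.subscheme, I.subschemeι ⁻¹ᵁ U.1) := by
    rw [← RingHom.smooth_algebraMap, RingHom.algebraMap_toAlgebra]
    exact (RingHom.Smooth.propertyIsLocal.respectsIso.cancel_left_isIso (Scheme.ΓSpecIso (CommRingCat.of k)).inv
      ((I.subschemeι ≫ q).appLE ⊤ (I.subschemeι ⁻¹ᵁ U.1) le_top)).symm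
  rw [h1, ← smooth_iff _ hG]
  exact ⟨fun _ => Algebra.Smooth.of_equiv Ψ.symm, fun _ => Algebra.Smooth.of_equiv Ψ⟩

/-- A hypersurface is smooth iff each chart equation is, with its partial derivatives, unimodular. -/
theorem smooth_hyp_iff (G : LefPen.Form n k d)
    (hG : ∀ l, dehP k l (G : MvPolynomial (Fin (n + 1)) k) ≠ 0) :
    Smooth ((LefPen.hypIdeal G).subschemeι ≫ CohB1.ProjSpace.toSpec n k) ↔
      ∀ l, jac (dehP k l (G : MvPolynomial (Fin (n + 1)) k)) = ⊤ := by
  rw [HasRingHomProperty.iff_of_iSup_eq_top (P := @Smooth)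
    (U := fun l => (⟨(LefPen.hypIdeal G).subschemeι ⁻¹ᵁ (CompInt.C k n l).1,
      (CompInt.C k n l).2.preimage _⟩ : (LefPen.hypIdeal G).subscheme.affineOpens))
    (top_le_iff.1 fun y _ => Opens.mem_iSup.2 (PicPn.exists_mem_ch _))]
  exact forall_congr' fun l => smooth_chart_iff G l (hG l)

theorem smooth_cubic_iff (h2 : (2 : k) ≠ 0) (a b : k) (W : LefPen.Form 2 k 3)
    (hW : (W : MvPolynomial (Fin (2 + 1)) k) = cubic a b) :
    Smooth ((LefPen.hypIdeal W).subschemeι ≫ CohB1.ProjSpace.toSpec 2 k) ↔ 4 * a ^ 3 + 27 * b ^ 2 ≠ 0 := by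
  rw [smooth_hyp_iff W (fun l => hW ▸ dehP_cubic_ne_zero a b l), hW, jac_cubic_iff a b h2]

end Groth.Agent.HypJac
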