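import Mathlib

/-!
The Jacobian criterion for an affine hypersurface over any field.
-/

set_option autoImplicit false
set_option linter.style.haveILetI false

universe u

open MvPolynomial TensorProduct KaehlerDifferential

namespace Groth.Agent.HypJac

variable {k : Type u} [Field k] {σ : Type} [Fintype σ]

/-- The ideal of a polynomial and its partial derivatives. -/
noncomputable def jac (g : MvPolynomial σ k) : Ideal (MvPolynomial σ k) :=
  Ideal.span ({g} ∪ Set.range fun i => pderiv i g)

theorem self_mem_jac (g : MvPolynomial σ k) : g ∈ jac g := Ideal.subset_span (Or.inl rfl)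

theorem pderiv_mem_jac (g : MvPolynomial σ k) (i : σ) : pderiv i g ∈ jac g := Ideal.subset_span (Or.inr ⟨i, rfl⟩)

theorem jac_eq_top_iff (g : MvPolynomial σ k) :
    jac g = ⊤ ↔ ∃ c : σ → MvPolynomial σ k, g ∣ 1 - ∑ i, c i * pderiv i g := by
  rw [Ideal.eq_top_iff_one, jac, Ideal.span_union, Submodule.mem_sup]
  constructor
  · rintro ⟨y, hy, z, hz, h⟩
    obtain ⟨c, rfl⟩ := Ideal.mem_span_range_iff_exists_fun.1 hz
    exact ⟨c, by rw [← h, add_sub_cancel_right]; exact Ideal.mem_span_singleton.1 hy⟩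
  · rintro ⟨c, hc⟩
    exact ⟨_, Ideal.mem_span_singleton.2 hc, _, Ideal.mem_span_range_iff_exists_fun.2 ⟨c, rfl⟩, sub_add_cancel _ _⟩

/-- A nonzero affine hypersurface is smooth iff the equation and its partial derivatives generate the unit ideal. -/
theorem formallySmooth_iff (g : MvPolynomial σ k) (hg : g ≠ 0) :
    Algebra.FormallySmooth k (MvPolynomial σ k ⧸ Ideal.span {g}) ↔ jac g = ⊤ := by
  classical
  let P := MvPolynomial σ k
  let B := MvPolynomial σ k ⧸ Ideal.span {g}
  have hs : Function.Surjective (algebraMap P B) := Ideal.Quotient.mk_surjective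
  have hker : RingHom.ker (algebraMap P B) = Ideal.span {g} := Ideal.mk_ker
  have hgmem : g ∈ RingHom.ker (algebraMap P B) := hker.ge (Ideal.mem_span_singleton_self g)
  let g₀ : (RingHom.ker (algebraMap P B)).Cotangent := Ideal.toCotangent _ ⟨g, hgmem⟩
  have hgen : ∀ x : (RingHom.ker (algebraMap P B)).Cotangent, ∃ p : P, x = p • g₀ := fun x => by
    obtain ⟨⟨y, hy⟩, rfl⟩ := Ideal.toCotangent_surjective _ x
    obtain ⟨p, rfl⟩ := Ideal.mem_span_singleton'.1 (hker.le hy)
    exact ⟨p, by rw [← map_smul]; rfl⟩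
  have hκ : kerCotangentToTensor k P B g₀ = ∑ i, pderiv i g • ((1 : B) ⊗ₜ[P] D k P (X i)) := by
    rw [kerCotangentToTensor_toCotangent]
    have h := (mvPolynomialBasis k σ).sum_repr (D k P g)
    conv_lhs => rw [← h]
    rw [TensorProduct.tmul_sum]
    refine Finset.sum_congr rfl fun i _ => ?_
    rw [mvPolynomialBasis_repr_apply, mvPolynomialBasis_apply, TensorProduct.tmul_smul]
  rw [Algebra.FormallySmooth.iff_split_injection (R := k) (P := P) hs, jac_eq_top_iff]
  constructor
  · rintro ⟨l, hl⟩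
    choose c hc using fun i => hgen (l ((1 : B) ⊗ₜ[P] D k P (X i)))
    refine ⟨c, ?_⟩
    have h : g₀ = (∑ i, c i * pderiv i g) • g₀ := by
      refine (LinearMap.congr_fun hl g₀).symm.trans ?_
      rw [LinearMap.comp_apply, hκ, map_sum, Finset.sum_smul]
      exact Finset.sum_congr rfl fun i _ => by rw [map_smul, hc, smul_smul, mul_comm]
    have h0 : Ideal.toCotangent (RingHom.ker (algebraMap P B))
        ((1 - ∑ i, c i * pderiv i g) • ⟨g, hgmem⟩) = 0 := by
      rw [map_smul, sub_smul, one_smul, ← h, sub_self]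
    have h1 := (Ideal.toCotangent_eq_zero _ _).1 h0
    have h2 : (RingHom.ker (algebraMap P B)) ^ 2 = Ideal.span {g * g} := by
      rw [hker, pow_two, Ideal.span_singleton_mul_span_singleton]
    exact (mul_dvd_mul_iff_right hg).1 (Ideal.mem_span_singleton.1 (h2.le h1))
  · rintro ⟨c, hc⟩
    let φ : Ω[P⁄k] →ₗ[P] P := (mvPolynomialBasis k σ).constr P c
    let τ : B →ₗ[P] Ω[P⁄k] →ₗ[P] (RingHom.ker (algebraMap P B)).Cotangent :=
      Submodule.liftQ _ ((LinearMap.lsmul P _).compl₂ ((LinearMap.toSpanSingleton P _ g₀).comp φ)) (by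
        intro y hy
        obtain ⟨p, rfl⟩ := Ideal.mem_span_singleton'.1 hy
        refine LinearMap.ext fun ω => ?_
        show (p * g) • (φ ω • g₀) = 0
        rw [smul_smul, show p * g * φ ω = g * (p * φ ω) by ring, mul_smul, ← map_smul, ← map_smul,
          Ideal.toCotangent_eq_zero, pow_two]
        exact Ideal.mul_mem_mul hgmem (Ideal.mul_mem_left _ _ hgmem))
    refine ⟨TensorProduct.lift τ, LinearMap.ext fun x => ?_⟩
    obtain ⟨p, rfl⟩ := hgen x
    rw [LinearMap.comp_apply, LinearMap.id_apply, map_smul, map_smul, hκ, map_sum]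
    congr 1
    have hφ : ∀ i, φ (D k P (X i)) = c i := fun i => by
      rw [← mvPolynomialBasis_apply]; exact (mvPolynomialBasis k σ).constr_basis P c i
    have : ∀ i, TensorProduct.lift τ (pderiv i g • ((1 : B) ⊗ₜ[P] D k P (X i))) = (c i * pderiv i g) • g₀ := fun i => by
      rw [map_smul, TensorProduct.lift.tmul]
      show pderiv i g • ((1 : P) • (φ (D k P (X i)) • g₀)) = _
      rw [one_smul, hφ, smul_smul, mul_comm]
    rw [Finset.sum_congr rfl fun i _ => this i, ← Finset.sum_smul]
    have h0 : ((1 - ∑ i, c i * pderiv i g) • g₀) = 0 := by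
      rw [← map_smul, Ideal.toCotangent_eq_zero, pow_two]
      exact Ideal.mul_mem_mul (hker.ge (Ideal.mem_span_singleton.2 hc)) hgmem
    rw [sub_smul, one_smul, sub_eq_zero] at h0
    exact h0.symm

theorem smooth_iff (g : MvPolynomial σ k) (hg : g ≠ 0) :
    Algebra.Smooth k (MvPolynomial σ k ⧸ Ideal.span {g}) ↔ jac g = ⊤ := by
  rw [← formallySmooth_iff g hg]
  refine ⟨fun h => h.formallySmooth, fun h => ⟨h, ?_⟩⟩
  exact Algebra.FinitePresentation.quotient ⟨{g}, by simp⟩

end Groth.Agent.HypJac
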